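import Groth.Prelude.Def_RegImm
import Groth.Agent.RegLimLib.Basic
import Groth.Agent.AffLim.Props
import Groth.Agent.RelDivLib.ImmBC
import Groth.Agent.RegKindDescLib.Scheme

/-!
A regular immersion in a limit of schemes with affine flat transition maps comes from some stage.
-/

set_option autoImplicit false
set_option backward.isDefEq.respectTransparency false
set_option backward.defeqAttrib.useBackward true
set_option linter.style.haveILetI false

universe u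

open CategoryTheory CategoryTheory.Limits AlgebraicGeometry RingTheory.Sequence

namespace Groth.Agent.RegImmLimLib

theorem isRegular_of_weakly {A : Type u} [CommRing A] {rs : List A} (h : IsWeaklyRegular A rs)
    (hne : Ideal.ofList rs ≠ ⊤) : IsRegular A rs :=
  ⟨h, fun e => hne (by rw [e, smul_eq_mul, Ideal.mul_top])⟩

theorem exists_mul_mem {A B : Type u} [CommRing A] [CommRing B] [Algebra A B] (P : Ideal A) [P.IsPrime]
    [IsLocalization.AtPrime B P] {I J : Ideal A} (hI : I.FG)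
    (h : I.map (algebraMap A B) ≤ J.map (algebraMap A B)) : ∃ t ∉ P, ∀ x ∈ I, t * x ∈ J := by
  revert h
  induction I, hI using Submodule.fg_induction with
  | singleton x =>
    intro h
    have h1 : algebraMap A B x ∈ J.map (algebraMap A B) :=
      h (Ideal.mem_map_of_mem _ (Submodule.mem_span_singleton_self x))
    rw [IsLocalization.algebraMap_mem_map_algebraMap_iff P.primeCompl] at h1
    obtain ⟨t, ht, htx⟩ := h1
    refine ⟨t, ht, fun y hy => ?_⟩
    obtain ⟨a, rfl⟩ := Submodule.mem_span_singleton.1 hy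
    rw [smul_eq_mul, mul_left_comm]
    exact J.mul_mem_left a htx
  | sup N₁ N₂ hN₁ hN₂ h₁ h₂ =>
    intro h
    rw [Ideal.map_sup] at h
    obtain ⟨t, ht, ht'⟩ := h₁ (le_sup_left.trans h)
    obtain ⟨s, hs, hs'⟩ := h₂ (le_sup_right.trans h)
    refine ⟨t * s, fun hm => (Ideal.IsPrime.mem_or_mem inferInstance hm).elim ht hs, fun x hx => ?_⟩
    obtain ⟨a, ha, b, hb, rfl⟩ := Submodule.mem_sup.1 hx
    rw [mul_add]
    refine J.add_mem ?_ ?_
    · rw [mul_comm t s, mul_assoc]; exact J.mul_mem_left _ (ht' a ha)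
    · rw [mul_assoc]; exact J.mul_mem_left _ (hs' b hb)

theorem map_eq_of_isUnit {A B : Type u} [CommRing A] [CommRing B] (f : A →+* B) {I J : Ideal A} {t : A}
    (ht : IsUnit (f t)) (h : ∀ x ∈ I, t * x ∈ J) : I.map f ≤ J.map f :=
  Ideal.map_le_iff_le_comap.2 fun x hx => by
    have h1 := Ideal.mem_map_of_mem f (h x hx)
    rw [map_mul] at h1
    exact (Ideal.unit_mul_mem_iff_mem _ ht).1 h1

theorem ker_ne_top {Z X : Scheme.{u}} (i : Z ⟶ X) (V : X.Opens) (z : Z) (hz : i z ∈ V) :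
    RingHom.ker (i.app V).hom ≠ ⊤ := by
  intro h
  have h1 : (i.app V).hom 1 = 0 := RingHom.mem_ker.1 (h ▸ Submodule.mem_top)
  rw [map_one] at h1
  have h2 := congrArg (Z.presheaf.germ (i ⁻¹ᵁ V) z hz).hom h1
  rw [map_one, map_zero] at h2
  exact one_ne_zero h2

/-- Flat base change, at a point. -/
theorem at_flat {Z X Z' X' : Scheme.{u}} {i : Z ⟶ X} {i' : Z' ⟶ X'} {p : X' ⟶ X} {q : Z' ⟶ Z}
    (hc : IsPullback q i' i p) [Flat p] (z' : Z')
    (h : RegImm.IsRegularImmersionAt RegImm.Kind.regular i (q z')) :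
    RegImm.IsRegularImmersionAt RegImm.Kind.regular i' z' := by
  obtain ⟨U, hzU, hcl, rs, hrs, hker⟩ := h
  have hpz : p (i' z') ∈ U.1 := by
    rw [← Scheme.Hom.comp_apply, ← hc.w, Scheme.Hom.comp_apply]
    exact hzU
  obtain ⟨V, hV, hzV, hVU⟩ := exists_isAffineOpen_mem_and_subset (U := p ⁻¹ᵁ U.1) hpz
  obtain ⟨hcV, hkV⟩ := Groth.Agent.RelDivLib.closed_and_ker_pullback hc U.2 hcl hV hVU
  have hk : RingHom.ker (i'.app V).hom = Ideal.ofList (rs.map (p.appLE U.1 V hVU).hom) := by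
    rw [hkV, hker, Ideal.map_ofList]
  letI : Algebra Γ(X, U.1) Γ(X', V) := (p.appLE U.1 V hVU).hom.toAlgebra
  haveI : Module.Flat Γ(X, U.1) Γ(X', V) :=
    HasRingHomProperty.appLE (P := @Flat) p inferInstance U ⟨V, hV⟩ hVU
  exact ⟨⟨V, hV⟩, hzV, hcV, rs.map (p.appLE U.1 V hVU).hom,
    isRegular_of_weakly (IsWeaklyRegular.of_flat hrs.1) (hk ▸ ker_ne_top i' V z' hzV), hk⟩

theorem isOpen_at {Z X : Scheme.{u}} (i : Z ⟶ X) (k : RegImm.Kind) :
    IsOpen {z | RegImm.IsRegularImmersionAt k i z} :=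
  isOpen_iff_forall_mem_open.2 fun z hz => by
    obtain ⟨U, hzU, hcl, rs, hrs, hker⟩ := hz
    exact ⟨(i ⁻¹ᵁ U.1 : Z.Opens), fun w hw => ⟨U, hw, hcl, rs, hrs, hker⟩, (i ⁻¹ᵁ U.1).2, hzU⟩

theorem appLE_trans {X Y Z : Scheme.{u}} (f : X ⟶ Y) (g : Y ⟶ Z) (h : X ⟶ Z) (w : f ≫ g = h)
    {W : Z.Opens} {V : Y.Opens} {U : X.Opens} (e₁ : V ≤ g ⁻¹ᵁ W) (e₂ : U ≤ f ⁻¹ᵁ V) (e₃ : U ≤ h ⁻¹ᵁ W)
    (a : Γ(Z, W)) : f.appLE V U e₂ (g.appLE W V e₁ a) = h.appLE W U e₃ a := by
  subst w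
  rw [← CommRingCat.comp_apply, Scheme.Hom.appLE_comp_appLE]

variable {I : Type u} [SmallCategory I] [IsCofiltered I] (D : I ⥤ Scheme.{u}) (c : Cone D) (hc : IsLimit c)
  [∀ {i j : I} (f : i ⟶ j), IsAffineHom (D.map f)]

include hc in
theorem exists_lift_list : ∀ (s : List Unit) (l : I) (W : (D.obj l).Opens), IsAffineOpen W → ∀ (U : c.pt.Opens),
    U = c.π.app l ⁻¹ᵁ W → ∀ rs : List Γ(c.pt, U), rs.length = s.length →
    ∃ (m : I) (ψ : m ⟶ l) (e : U ≤ c.π.app m ⁻¹ᵁ (D.map ψ ⁻¹ᵁ W)) (ts : List Γ(D.obj m, D.map ψ ⁻¹ᵁ W)),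
      ts.map ((c.π.app m).appLE _ U e).hom = rs := by
  intro s
  induction s with
  | nil =>
    intro l W _ U hU rs hlen
    refine ⟨l, 𝟙 l, ?_, [], (List.eq_nil_of_length_eq_zero hlen).symm⟩
    rw [hU, ← Scheme.Hom.comp_preimage, c.w]
  | cons _ s ih =>
    intro l W hW U hU rs hlen
    subst hU
    match rs, hlen with
    | [], hlen => exact absurd hlen (by simp)
    | r :: rs, hlen =>
      obtain ⟨m₁, ψ₁, e₁, t, ht⟩ := Groth.Agent.AffLim.exists_appLE_eq D c hc hW r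
      obtain ⟨m, ψ, e, ts, hts⟩ := ih m₁ (D.map ψ₁ ⁻¹ᵁ W) (hW.preimage _) (c.π.app l ⁻¹ᵁ W)
        (by rw [← Scheme.Hom.comp_preimage, c.w]) rs (by simpa using hlen)
      have hle : D.map (ψ ≫ ψ₁) ⁻¹ᵁ W = D.map ψ ⁻¹ᵁ (D.map ψ₁ ⁻¹ᵁ W) := by
        rw [D.map_comp, Scheme.Hom.comp_preimage]
      have e' : c.π.app l ⁻¹ᵁ W ≤ c.π.app m ⁻¹ᵁ (D.map (ψ ≫ ψ₁) ⁻¹ᵁ W) := by rw [hle]; exact e
      refine ⟨m, ψ ≫ ψ₁, e', (D.map ψ).appLE (D.map ψ₁ ⁻¹ᵁ W) (D.map (ψ ≫ ψ₁) ⁻¹ᵁ W) hle.le t ::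
        ts.map ((D.obj m).presheaf.map (homOfLE hle.le).op).hom, ?_⟩
      rw [List.map_cons, List.map_map, ← hts]
      refine congr_arg₂ List.cons ?_ (List.map_congr_left fun a _ => ?_)
      · exact (appLE_trans _ _ _ (c.w ψ) hle.le e' e₁ t).trans ht
      · show ((D.obj m).presheaf.map (homOfLE hle.le).op ≫ (c.π.app m).appLE _ _ e').hom a = _
        rw [Scheme.Hom.map_appLE]

include hc in
theorem exists_stage (hflat : ∀ (i j : I) (f : i ⟶ j), Flat (D.map f))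
    (i₀ : I) {X₀ : Scheme.{u}} (j₀ : X₀ ⟶ D.obj i₀) [IsImmersion j₀]
    (hcase : (∀ i : I, IsLocallyNoetherian (D.obj i)) ∨
      ((∀ (i j : I) (f : i ⟶ j), Surjective (D.map f)) ∧ LocallyOfFinitePresentation j₀))
    (y : ↥(pullback j₀ (c.π.app i₀)))
    (hy : RegImm.IsRegularImmersionAt RegImm.Kind.regular (pullback.snd j₀ (c.π.app i₀)) y) :
    ∃ (m : I) (b : m ⟶ i₀), RegImm.IsRegularImmersionAt RegImm.Kind.regular (pullback.snd j₀ (D.map b))
      ((pullback.lift (f := j₀) (g := D.map b) (pullback.fst j₀ (c.π.app i₀))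
        (pullback.snd j₀ (c.π.app i₀) ≫ c.π.app m) (by rw [Category.assoc, c.w, pullback.condition])) y) := by
  set i' := pullback.snd j₀ (c.π.app i₀)
  let z := i' y
  have hz₀ : c.π.app i₀ z ∈ j₀.coborderRange := by
    refine subset_coborder ⟨pullback.fst j₀ (c.π.app i₀) y, ?_⟩
    show _ = c.π.app i₀ (i' y)
    rw [← Scheme.Hom.comp_apply, pullback.condition, Scheme.Hom.comp_apply]
  obtain ⟨W₀, hW₀, hzW₀, hW₀O⟩ := exists_isAffineOpen_mem_and_subset hz₀
  have hcl₀ := Groth.Agent.RegKindDescLib.isClosedImmersion_restrict j₀ W₀ hW₀O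
  obtain ⟨U₀, hzU₀, hclU₀, rs₀, hrs₀, hker₀⟩ := hy
  obtain ⟨k, V, -, hzV, hVU₀⟩ := Groth.Agent.AffLim.exists_affine_preimage_subset D c hc U₀.1.2 hzU₀
  obtain ⟨l, a, b, -⟩ := IsCofilteredOrEmpty.cone_objs k i₀
  obtain ⟨W, hW, hzW, hWle⟩ := exists_isAffineOpen_mem_and_subset (x := c.π.app l z)
    (U := D.map a ⁻¹ᵁ V ⊓ D.map b ⁻¹ᵁ W₀) ⟨by
      show D.map a (c.π.app l z) ∈ V
      rw [← Scheme.Hom.comp_apply, c.w]; exact hzV, by
      show D.map b (c.π.app l z) ∈ W₀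
      rw [← Scheme.Hom.comp_apply, c.w]; exact hzW₀⟩
  let U : c.pt.Opens := c.π.app l ⁻¹ᵁ W
  haveI := isAffineHom_π_app D c hc l
  have hU : IsAffineOpen U := hW.preimage (c.π.app l)
  have hUU₀ : U ≤ U₀.1 := fun x hx => hVU₀ (by
    show c.π.app k x ∈ V
    rw [← c.w a, Scheme.Hom.comp_apply]; exact (hWle hx).1)
  have hUid : U ≤ (𝟙 c.pt : c.pt ⟶ c.pt) ⁻¹ᵁ U₀.1 := hUU₀
  obtain ⟨-, hkU⟩ := Groth.Agent.RelDivLib.closed_and_ker_pullback (i := i') (i' := i')
    (IsPullback.of_horiz_isIso ⟨(Category.id_comp _).trans (Category.comp_id _).symm⟩) U₀.2 hclU₀ hU hUid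
  let r := ((𝟙 c.pt : c.pt ⟶ c.pt).appLE U₀.1 U hUid).hom
  have hr : IsWeaklyRegular Γ(c.pt, U) (rs₀.map r) := by
    letI : Algebra Γ(c.pt, U₀.1) Γ(c.pt, U) := r.toAlgebra
    haveI : Module.Flat Γ(c.pt, U₀.1) Γ(c.pt, U) :=
      HasRingHomProperty.appLE (P := @Flat) (𝟙 c.pt) inferInstance U₀ ⟨U, hU⟩ hUid
    exact IsWeaklyRegular.of_flat hrs₀.1
  obtain ⟨m, ψ, e, ts, hts⟩ := exists_lift_list D c hc (List.replicate (rs₀.map r).length ()) l W hW U rfl
    (rs₀.map r) (by simp)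
  refine ⟨m, ψ ≫ b, ?_⟩
  set q := pullback.lift (f := j₀) (g := D.map (ψ ≫ b)) (pullback.fst j₀ (c.π.app i₀))
        (i' ≫ c.π.app m) (by rw [Category.assoc, c.w, pullback.condition])
  set jm := pullback.snd j₀ (D.map (ψ ≫ b))
  have hsq : IsPullback q i' jm (c.π.app m) :=
    IsPullback.of_right (by
      rw [pullback.lift_fst, c.w]; exact IsPullback.of_hasPullback j₀ (c.π.app i₀))
      (pullback.lift_snd _ _ _) (IsPullback.of_hasPullback j₀ (D.map (ψ ≫ b)))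
  let Wm : (D.obj m).Opens := D.map ψ ⁻¹ᵁ W
  have hWm : IsAffineOpen Wm := hW.preimage _
  have hWmle : Wm ≤ D.map (ψ ≫ b) ⁻¹ᵁ W₀ := by
    rw [D.map_comp, Scheme.Hom.comp_preimage]
    exact Scheme.Hom.preimage_mono _ (hWle.trans inf_le_right)
  obtain ⟨hclm, hkm⟩ := Groth.Agent.RelDivLib.closed_and_ker_pullback
    (IsPullback.of_hasPullback j₀ (D.map (ψ ≫ b))) hW₀ hcl₀ hWm hWmle
  obtain ⟨-, hkU'⟩ := Groth.Agent.RelDivLib.closed_and_ker_pullback hsq hWm hclm hU e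
  let φ := ((c.π.app m).appLE Wm U e).hom
  haveI hπflat : Flat (c.π.app m) := Groth.Agent.AffLim.flat_π D c hc fun j φ => hflat j m φ
  letI : Algebra Γ(D.obj m, Wm) Γ(c.pt, U) := φ.toAlgebra
  haveI : Module.Flat Γ(D.obj m, Wm) Γ(c.pt, U) :=
    HasRingHomProperty.appLE (P := @Flat) (c.π.app m) hπflat ⟨Wm, hWm⟩ ⟨U, hU⟩ e
  have hIJ : (RingHom.ker (jm.app Wm).hom).map φ = (Ideal.ofList ts).map φ := by
    rw [← hkU', hkU, hker₀, Ideal.map_ofList, Ideal.map_ofList]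
    exact congrArg Ideal.ofList hts.symm
  have hw : IsWeaklyRegular Γ(c.pt, U) (ts.map (algebraMap Γ(D.obj m, Wm) Γ(c.pt, U))) := hts.symm ▸ hr
  let zm := q y
  have hzm : jm zm = c.π.app m z := by rw [← Scheme.Hom.comp_apply, hsq.w, Scheme.Hom.comp_apply]; rfl
  have hzU : z ∈ U := hzW
  have hzWm : jm zm ∈ Wm := hzm ▸ e hzU
  rcases hcase with hN | ⟨hS, hfp⟩
  swap
  · haveI : Surjective (c.π.app m) := (Groth.Agent.AffLim.surjective_π_iff D c hc m).2 fun j φ => hS j m φ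
    haveI : Module.FaithfullyFlat Γ(D.obj m, Wm) Γ(c.pt, U) := by
      refine .of_comap_surjective fun p => ?_
      obtain ⟨s, hs⟩ := (c.π.app m).surjective (hWm.fromSpec p)
      have hsU : s ∈ U := by
        show c.π.app l s ∈ W
        rw [← c.w ψ, Scheme.Hom.comp_apply]
        erw [hs]
        exact hWm.range_fromSpec.subset ⟨p, rfl⟩
      refine ⟨hU.primeIdealOf ⟨s, hsU⟩, hWm.fromSpec.isOpenEmbedding.injective ?_⟩
      show hWm.fromSpec ((Spec.map ((c.π.app m).appLE Wm U e)) _) = _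
      rw [← Scheme.Hom.comp_apply, hWm.SpecMap_appLE_fromSpec (c.π.app m) hU e, Scheme.Hom.comp_apply]
      erw [hU.fromSpec_primeIdealOf]
      exact hs
    have hEq : RingHom.ker (jm.app Wm).hom = Ideal.ofList ts := by
      rw [← Ideal.comap_map_eq_self_of_faithfullyFlat (B := Γ(c.pt, U)) (RingHom.ker (jm.app Wm).hom),
        ← Ideal.comap_map_eq_self_of_faithfullyFlat (B := Γ(c.pt, U)) (Ideal.ofList ts)]
      exact congrArg _ hIJ
    exact ⟨⟨Wm, hWm⟩, hzWm, hclm, ts, isRegular_of_weakly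
      (Groth.Agent.RegLimLib.isWeaklyRegular_of_faithfullyFlat hw) (hEq ▸ ker_ne_top jm Wm zm hzWm), hEq⟩
  · haveI := hN m
    haveI : IsNoetherianRing Γ(D.obj m, Wm) := IsLocallyNoetherian.component_noetherian ⟨Wm, hWm⟩
    let x := c.π.app m z
    have hx : x ∈ Wm := e hzU
    letI : Algebra Γ(D.obj m, Wm) ((D.obj m).presheaf.stalk x) := ((D.obj m).presheaf.germ Wm x hx).hom.toAlgebra
    letI : Algebra Γ(c.pt, U) (c.pt.presheaf.stalk z) := (c.pt.presheaf.germ U z hzU).hom.toAlgebra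
    let P := (hWm.primeIdealOf ⟨x, hx⟩).asIdeal
    haveI : IsLocalization.AtPrime ((D.obj m).presheaf.stalk x) P := hWm.isLocalization_stalk ⟨x, hx⟩
    haveI : IsLocalization.AtPrime (c.pt.presheaf.stalk z) (hU.primeIdealOf ⟨z, hzU⟩).asIdeal :=
      hU.isLocalization_stalk ⟨z, hzU⟩
    haveI : Module.Flat Γ(c.pt, U) (c.pt.presheaf.stalk z) :=
      IsLocalization.flat _ (hU.primeIdealOf ⟨z, hzU⟩).asIdeal.primeCompl
    let σ := ((c.π.app m).stalkMap z).hom
    letI : Algebra ((D.obj m).presheaf.stalk x) (c.pt.presheaf.stalk z) := σ.toAlgebra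
    haveI : Module.Flat ((D.obj m).presheaf.stalk x) (c.pt.presheaf.stalk z) := Flat.stalkMap (c.π.app m) z
    haveI : IsLocalHom (algebraMap ((D.obj m).presheaf.stalk x) (c.pt.presheaf.stalk z)) :=
      inferInstanceAs (IsLocalHom ((c.π.app m).stalkMap z).hom)
    haveI : Module.FaithfullyFlat ((D.obj m).presheaf.stalk x) (c.pt.presheaf.stalk z) :=
      Module.FaithfullyFlat.of_flat_of_isLocalHom
    have comm : σ.comp (algebraMap Γ(D.obj m, Wm) ((D.obj m).presheaf.stalk x)) =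
        (algebraMap Γ(c.pt, U) (c.pt.presheaf.stalk z)).comp φ := by
      refine RingHom.ext fun f => ?_
      show (c.π.app m).stalkMap z ((D.obj m).presheaf.germ Wm x hx f) =
        c.pt.presheaf.germ U z hzU ((c.π.app m).appLE Wm U e f)
      rw [Scheme.Hom.germ_stalkMap_apply, Scheme.Hom.appLE, CommRingCat.comp_apply]
      exact (c.pt.presheaf.germ_res_apply (homOfLE e) z hzU _).symm
    have hwx : IsWeaklyRegular ((D.obj m).presheaf.stalk x)
        (ts.map (algebraMap Γ(D.obj m, Wm) ((D.obj m).presheaf.stalk x))) := by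
      refine Groth.Agent.RegLimLib.isWeaklyRegular_of_faithfullyFlat (B := c.pt.presheaf.stalk z) ?_
      rw [List.map_map, show (algebraMap ((D.obj m).presheaf.stalk x) (c.pt.presheaf.stalk z) : _ → _) ∘
        (algebraMap Γ(D.obj m, Wm) ((D.obj m).presheaf.stalk x)) =
        (algebraMap Γ(c.pt, U) (c.pt.presheaf.stalk z)) ∘ φ from congrArg DFunLike.coe comm, ← List.map_map]
      exact IsWeaklyRegular.of_flat hw
    have hIJx : (RingHom.ker (jm.app Wm).hom).map (algebraMap Γ(D.obj m, Wm) ((D.obj m).presheaf.stalk x)) =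
        (Ideal.ofList ts).map (algebraMap Γ(D.obj m, Wm) ((D.obj m).presheaf.stalk x)) := by
      rw [← Ideal.comap_map_eq_self_of_faithfullyFlat (B := c.pt.presheaf.stalk z)
          ((RingHom.ker (jm.app Wm).hom).map _),
        ← Ideal.comap_map_eq_self_of_faithfullyFlat (B := c.pt.presheaf.stalk z) ((Ideal.ofList ts).map _)]
      refine congrArg _ ?_
      rw [Ideal.map_map, Ideal.map_map]
      show Ideal.map (σ.comp _) _ = Ideal.map (σ.comp _) _
      rw [comm, ← Ideal.map_map, ← Ideal.map_map, hIJ]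
    obtain ⟨g, hg, hgreg⟩ := Groth.Agent.RegLimLib.exists_weaklyRegular_away P ((D.obj m).presheaf.stalk x) ts hwx
    obtain ⟨t₁, ht₁, ht₁'⟩ := exists_mul_mem P (IsNoetherian.noetherian _) hIJx.le
    obtain ⟨t₂, ht₂, ht₂'⟩ := exists_mul_mem P (IsNoetherian.noetherian _) hIJx.ge
    have mem_bo : ∀ {d : Γ(D.obj m, Wm)}, d ∉ P → x ∈ (D.obj m).basicOpen d := fun {d} hd =>
      ((D.obj m).mem_basicOpen d x hx).2 (IsLocalization.map_units ((D.obj m).presheaf.stalk x) (⟨d, hd⟩ : P.primeCompl))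
    obtain ⟨V', hV', hxV', hV'le⟩ := exists_isAffineOpen_mem_and_subset (x := x)
      (U := (D.obj m).basicOpen g ⊓ ((D.obj m).basicOpen t₁ ⊓ (D.obj m).basicOpen t₂))
      ⟨mem_bo hg, mem_bo ht₁, mem_bo ht₂⟩
    have hVg : V' ≤ (D.obj m).basicOpen g := hV'le.trans inf_le_left
    have hVW : V' ≤ Wm := hVg.trans ((D.obj m).basicOpen_le g)
    let ρ := ((D.obj m).presheaf.map (homOfLE hVW).op).hom
    have hunit : ∀ {t : Γ(D.obj m, Wm)}, V' ≤ (D.obj m).basicOpen t → IsUnit (ρ t) := fun {t} ht => by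
      have h1 := ((D.obj m).toRingedSpace.isUnit_res_basicOpen t).map ((D.obj m).presheaf.map (homOfLE ht).op).hom
      convert h1 using 1
      show ρ t = ((D.obj m).presheaf.map (homOfLE ((D.obj m).basicOpen_le t)).op ≫
        (D.obj m).presheaf.map (homOfLE ht).op) t
      rw [← Functor.map_comp]; rfl
    have hidle : V' ≤ (𝟙 (D.obj m) : D.obj m ⟶ D.obj m) ⁻¹ᵁ Wm := hVW
    obtain ⟨hclV, hkV⟩ := Groth.Agent.RelDivLib.closed_and_ker_pullback (i := jm) (i' := jm)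
      (IsPullback.of_horiz_isIso ⟨(Category.id_comp _).trans (Category.comp_id _).symm⟩) hWm hclm hV' hidle
    have hρ : ((𝟙 (D.obj m) : D.obj m ⟶ D.obj m).appLE Wm V' hidle).hom = ρ := by
      simp [ρ, Scheme.Hom.appLE]
    rw [hρ] at hkV
    have hEq : RingHom.ker (jm.app V').hom = Ideal.ofList (ts.map ρ) := by
      rw [hkV, ← Ideal.map_ofList]
      exact le_antisymm (map_eq_of_isUnit ρ (hunit (hV'le.trans (inf_le_right.trans inf_le_left))) ht₁')
        (map_eq_of_isUnit ρ (hunit (hV'le.trans (inf_le_right.trans inf_le_right))) ht₂')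
    let Bg := (D.obj m).basicOpen g
    let ρg := ((D.obj m).presheaf.map (homOfLE ((D.obj m).basicOpen_le g)).op).hom
    letI : Algebra Γ(D.obj m, Wm) Γ(D.obj m, Bg) := ρg.toAlgebra
    haveI : IsLocalization.Away g Γ(D.obj m, Bg) :=
      hWm.isLocalization_of_eq_basicOpen g (homOfLE ((D.obj m).basicOpen_le g)) rfl
    have h2 := hgreg Γ(D.obj m, Bg)
    letI : Algebra Γ(D.obj m, Bg) Γ(D.obj m, V') := ((D.obj m).presheaf.map (homOfLE hVg).op).hom.toAlgebra
    haveI : Module.Flat Γ(D.obj m, Bg) Γ(D.obj m, V') := by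
      have h3 := HasRingHomProperty.appLE (P := @Flat) (𝟙 (D.obj m)) inferInstance ⟨Bg, hWm.basicOpen g⟩ ⟨V', hV'⟩ hVg
      simp only [Scheme.Hom.appLE, Scheme.Hom.id_app, Category.id_comp] at h3
      exact h3
    have h4 : IsWeaklyRegular Γ(D.obj m, V') (ts.map ρ) := by
      have h5 := IsWeaklyRegular.of_flat (S := Γ(D.obj m, V')) h2
      rw [List.map_map] at h5
      convert h5 using 2
      funext f
      show ρ f = ((D.obj m).presheaf.map (homOfLE ((D.obj m).basicOpen_le g)).op ≫ (D.obj m).presheaf.map (homOfLE hVg).op) f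
      rw [← Functor.map_comp]; rfl
    have hzV' : jm zm ∈ V' := hzm ▸ hxV'
    exact ⟨⟨V', hV'⟩, hzV', hclV, ts.map ρ, isRegular_of_weakly h4 (hEq ▸ ker_ne_top jm V' zm hzV'), hEq⟩

end Groth.Agent.RegImmLimLib
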